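import Cfsg.Agent.Lib.Unitary.Group
import Cfsg.Agent.Lib.InvolAlg.Basic

/-!
# Conjugacy in the general unitary group

* `adj hF M` : the conjugate transpose `(M^(q))ᵀ`; `mem_GU_iff_adj`
* `exists_adj_mul` : `adj x * x = h` inside the algebra of `h` (h hermitian invertible), commuting with what `h` commutes with
* `exists_hermitian_of_similar` : `adj A * g * A = g` gives a hermitian such intertwiner
* `exists_factor` : a hermitian invertible matrix is `adj P * P`
-/

set_option autoImplicit false

namespace Cfsg.Agent.UnitaryConj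

open Matrix

variable {K : Type*} [Field K] [Fintype K] {q n : ℕ} (hK : Fintype.card K = q ^ 2)

include hK in
theorem conj_conj (a : K) : (a ^ q) ^ q = a := Unitary.pow_q_pow_q hK a

/-- The conjugate transpose. -/
def adj (M : Matrix (Fin n) (Fin n) K) : Matrix (Fin n) (Fin n) K :=
  (M.map (Unitary.conjHom hK)).transpose

theorem adj_mul (A B : Matrix (Fin n) (Fin n) K) : adj hK (A * B) = adj hK B * adj hK A := by
  rw [adj, adj, adj, Matrix.map_mul, Matrix.transpose_mul]

theorem adj_one : adj hK (1 : Matrix (Fin n) (Fin n) K) = 1 := by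
  rw [adj, Matrix.map_one _ (map_zero _) (map_one _), Matrix.transpose_one]

theorem adj_zero : adj hK (0 : Matrix (Fin n) (Fin n) K) = 0 := by
  rw [adj, Matrix.map_zero _ (map_zero _), Matrix.transpose_zero]

theorem adj_add (A B : Matrix (Fin n) (Fin n) K) : adj hK (A + B) = adj hK A + adj hK B := by
  rw [adj, adj, adj, Matrix.map_add _ (map_add _), Matrix.transpose_add]

theorem adj_adj (A : Matrix (Fin n) (Fin n) K) : adj hK (adj hK A) = A := by
  ext i j
  exact conj_conj hK (A i j)

theorem adj_algebraMap (a : K) :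
    adj hK (algebraMap K (Matrix (Fin n) (Fin n) K) a) = algebraMap K _ (a ^ q) := by
  rw [Matrix.algebraMap_eq_diagonal, Matrix.algebraMap_eq_diagonal, adj, Matrix.diagonal_map (map_zero _),
    Matrix.diagonal_transpose]
  rfl

theorem isUnit_adj {A : Matrix (Fin n) (Fin n) K} (h : IsUnit A) : IsUnit (adj hK A) := by
  obtain ⟨u, rfl⟩ := h
  exact IsUnit.of_mul_eq_one (adj hK ((u⁻¹ : GL (Fin n) K) : Matrix (Fin n) (Fin n) K))
    (by rw [← adj_mul, Units.inv_mul, adj_one])

theorem adj_inv_mul (u : GL (Fin n) K) :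
    adj hK ((u⁻¹ : GL (Fin n) K) : Matrix (Fin n) (Fin n) K) * adj hK (u : Matrix (Fin n) (Fin n) K) = 1 := by
  rw [← adj_mul, Units.mul_inv, adj_one]

theorem adj_mul_inv (u : GL (Fin n) K) :
    adj hK (u : Matrix (Fin n) (Fin n) K) * adj hK ((u⁻¹ : GL (Fin n) K) : Matrix (Fin n) (Fin n) K) = 1 := by
  rw [← adj_mul, Units.inv_mul, adj_one]

theorem hermForm_eq_dot (u v : Fin n → K) :
    Cfsg.hermForm n K q u v = u ⬝ᵥ (Unitary.conjHom hK ∘ v) := rfl

theorem hermForm_mulVec (M : Matrix (Fin n) (Fin n) K) (u v : Fin n → K) :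
    Cfsg.hermForm n K q (M *ᵥ u) (M *ᵥ v)
      = u ⬝ᵥ ((M.transpose * M.map (Unitary.conjHom hK)) *ᵥ (Unitary.conjHom hK ∘ v)) := by
  rw [hermForm_eq_dot hK]
  have h : Unitary.conjHom hK ∘ (M *ᵥ v) = M.map (Unitary.conjHom hK) *ᵥ (Unitary.conjHom hK ∘ v) :=
    funext fun i => RingHom.map_mulVec _ M v i
  rw [h, ← Matrix.mulVec_mulVec, Matrix.dotProduct_mulVec u M.transpose, Matrix.vecMul_transpose]

theorem adj_mul_self_map (M : Matrix (Fin n) (Fin n) K) :
    adj hK M * M = (M.transpose * M.map (Unitary.conjHom hK)).transpose := by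
  rw [Matrix.transpose_mul, Matrix.transpose_transpose, adj]

theorem mem_GU_iff_adj (g : GL (Fin n) K) :
    g ∈ Cfsg.GU n K q ↔
      adj hK (g : Matrix (Fin n) (Fin n) K) * (g : Matrix (Fin n) (Fin n) K) = 1 := by
  rw [Unitary.mem_GU_iff, adj_mul_self_map, Matrix.transpose_eq_one]
  constructor
  · intro h
    refine Matrix.ext fun i j => ?_
    have h' := h (Pi.single i 1) (Pi.single j 1)
    rw [hermForm_mulVec hK, hermForm_eq_dot hK] at h'
    have hs : Unitary.conjHom hK ∘ Pi.single j (1 : K) = Pi.single j 1 := by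
      funext k
      by_cases hk : k = j
      · subst hk; simp [-Unitary.conjHom_apply]
      · simp [hk, -Unitary.conjHom_apply]
    rw [hs, Matrix.mulVec_single_one, single_dotProduct, single_dotProduct, one_mul, one_mul] at h'
    rw [Matrix.col_apply, Pi.single_apply] at h'
    rw [h', Matrix.one_apply]
  · intro h u v
    rw [hermForm_mulVec hK, h, Matrix.one_mulVec, hermForm_eq_dot hK]

/-- A scalar moved by the conjugation. -/
theorem exists_moved (hK : Fintype.card K = q ^ 2) : ∃ a : K, a ^ q - a ≠ 0 := by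
  classical
  obtain ⟨x, hx⟩ := Unitary.exists_trace_eq hK (c := 1) (one_pow q)
  by_contra hcon
  push Not at hcon
  have h1 : ∀ a : K, a ^ q = a := fun a => sub_eq_zero.mp (hcon a)
  have hsub : Fintype.card K ≤ q := by
    have hp : (Polynomial.X ^ q - Polynomial.X : Polynomial K) ≠ 0 :=
      FiniteField.X_pow_card_sub_X_ne_zero K (Unitary.two_le_q hK)
    have h := Polynomial.card_roots' (Polynomial.X ^ q - Polynomial.X : Polynomial K)
    rw [FiniteField.X_pow_card_sub_X_natDegree_eq K (Unitary.two_le_q hK)] at h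
    refine le_trans ?_ h
    refine le_trans ?_ (Multiset.toFinset_card_le _)
    refine Finset.card_le_card (fun a _ => ?_)
    rw [Multiset.mem_toFinset, Polynomial.mem_roots hp]
    simp [h1 a]
  rw [hK] at hsub
  have := Unitary.two_le_q hK
  nlinarith

theorem adjoin_comm (u : Matrix (Fin n) (Fin n) K) :
    ∀ a ∈ ({u} : Set (Matrix (Fin n) (Fin n) K)), ∀ b ∈ ({u} : Set (Matrix (Fin n) (Fin n) K)), a * b = b * a := by
  intro a ha b hb
  rw [Set.mem_singleton_iff.mp ha, Set.mem_singleton_iff.mp hb]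

theorem inv_mem_adjoin (u : GL (Fin n) K) :
    ((u⁻¹ : GL (Fin n) K) : Matrix (Fin n) (Fin n) K) ∈ Algebra.adjoin K {(u : Matrix (Fin n) (Fin n) K)} := by
  classical
  have h1 : u ^ orderOf u = 1 := pow_orderOf_eq_one u
  have hpos : 0 < orderOf u := orderOf_pos u
  have h2 : u⁻¹ = u ^ (orderOf u - 1) := by
    rw [inv_eq_iff_mul_eq_one, ← pow_succ', show orderOf u - 1 + 1 = orderOf u by omega, h1]
  rw [h2, Units.val_pow_eq_pow_val]
  exact Subalgebra.pow_mem _ (Algebra.subset_adjoin (Set.mem_singleton _)) _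

theorem commute_of_mem_adjoin {A : Matrix (Fin n) (Fin n) K} {u : Matrix (Fin n) (Fin n) K}
    (h : Commute A u) {x : Matrix (Fin n) (Fin n) K} (hx : x ∈ Algebra.adjoin K {u}) : Commute A x := by
  induction hx using Algebra.adjoin_induction with
  | mem y hy => rw [Set.mem_singleton_iff.mp hy]; exact h
  | algebraMap r => exact Algebra.commute_algebraMap_right r A
  | add a b _ _ ha hb => exact ha.add_right hb
  | mul a b _ _ ha hb => exact ha.mul_right hb

/-- `adj x * x = h` is solvable in the algebra generated by a hermitian unit `h`. -/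
theorem exists_adj_mul (h : GL (Fin n) K)
    (hh : adj hK (h : Matrix (Fin n) (Fin n) K) = (h : Matrix (Fin n) (Fin n) K)) :
    ∃ x : GL (Fin n) K,
      adj hK (x : Matrix (Fin n) (Fin n) K) * (x : Matrix (Fin n) (Fin n) K) = (h : Matrix (Fin n) (Fin n) K) ∧
      ∀ A, Commute A (h : Matrix (Fin n) (Fin n) K) → Commute A (x : Matrix (Fin n) (Fin n) K) := by
  classical
  set S := Algebra.adjoin K {(h : Matrix (Fin n) (Fin n) K)}
  letI : CommRing S := { S.toRing with
    mul_comm := fun a b => Subtype.ext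
      ((commute_of_mem_adjoin (commute_of_mem_adjoin (Commute.refl _) a.2).symm b.2).eq) }
  haveI : Finite S := Finite.of_injective _ Subtype.val_injective
  have hclosed : ∀ x ∈ S, adj hK x ∈ S := by
    intro x hx
    induction hx using Algebra.adjoin_induction with
    | mem y hy => rw [Set.mem_singleton_iff.mp hy, hh]; exact Algebra.subset_adjoin (Set.mem_singleton _)
    | algebraMap r => rw [adj_algebraMap]; exact Subalgebra.algebraMap_mem _ _
    | add a b _ _ ha hb => rw [adj_add]; exact add_mem ha hb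
    | mul a b _ _ ha hb => rw [adj_mul]; exact mul_mem hb ha
  let τ : S →+* S :=
    { toFun := fun a => ⟨adj hK a.1, hclosed _ a.2⟩
      map_one' := Subtype.ext (adj_one hK)
      map_mul' := fun a b => Subtype.ext (by
        show adj hK (a.1 * b.1) = adj hK a.1 * adj hK b.1
        rw [adj_mul]
        exact (commute_of_mem_adjoin (commute_of_mem_adjoin (Commute.refl _) (hclosed _ b.2)).symm
          (hclosed _ a.2)).eq)
      map_zero' := Subtype.ext (adj_zero hK)
      map_add' := fun a b => Subtype.ext (adj_add hK _ _) }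
  obtain ⟨a, ha⟩ := exists_moved hK
  have hz : IsUnit (τ (algebraMap K S a) - algebraMap K S a) := by
    have he : τ (algebraMap K S a) = algebraMap K S (a ^ q) := Subtype.ext (adj_algebraMap hK a)
    rw [he, ← map_sub]
    exact (isUnit_iff_ne_zero.mpr ha).map _
  let r : S := ⟨h, Algebra.subset_adjoin (Set.mem_singleton _)⟩
  have hr : IsUnit r := IsUnit.of_mul_eq_one ⟨_, inv_mem_adjoin h⟩ (Subtype.ext (Units.mul_inv h))
  obtain ⟨x, hx, hxe⟩ := InvolAlg.exists_norm_eq τ (fun b => Subtype.ext (adj_adj hK _)) _ hz r hr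
    (Subtype.ext hh)
  refine ⟨(hx.map S.val).unit, ?_, fun A hA => ?_⟩
  · exact congrArg Subtype.val hxe
  · exact commute_of_mem_adjoin hA x.2

/-- From a similarity `adj A * g * A = g` to a hermitian one. -/
theorem exists_hermitian_of_similar (A g : GL (Fin n) K)
    (hg : adj hK (A : Matrix (Fin n) (Fin n) K) * g * A = (g : Matrix (Fin n) (Fin n) K)) :
    ∃ H : GL (Fin n) K, adj hK (H : Matrix (Fin n) (Fin n) K) = (H : Matrix (Fin n) (Fin n) K) ∧
      adj hK (A : Matrix (Fin n) (Fin n) K) * H * A = (H : Matrix (Fin n) (Fin n) K) := by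
  classical
  have hgs : IsUnit (adj hK (g : Matrix (Fin n) (Fin n) K)) := isUnit_adj hK g.isUnit
  set G := hgs.unit with hG
  have hGv : (G : Matrix (Fin n) (Fin n) K) = adj hK (g : Matrix (Fin n) (Fin n) K) := rfl
  set u := g⁻¹ * G with hu
  have huv : (u : Matrix (Fin n) (Fin n) K)
      = ((g⁻¹ : GL (Fin n) K) : Matrix (Fin n) (Fin n) K) * adj hK (g : Matrix (Fin n) (Fin n) K) := rfl
  have hG2 : adj hK (A : Matrix (Fin n) (Fin n) K) * G * A = (G : Matrix (Fin n) (Fin n) K) := by
    have h := congrArg (adj hK) hg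
    rw [adj_mul, adj_mul, adj_adj, ← mul_assoc] at h
    exact h
  have hAu : Commute (A : Matrix (Fin n) (Fin n) K) (u : Matrix (Fin n) (Fin n) K) := by
    have hs : IsUnit (adj hK (A : Matrix (Fin n) (Fin n) K)) := isUnit_adj hK A.isUnit
    have e1 : hs.unit * g * A = g := Units.ext hg
    have e2 : hs.unit * G * A = G := Units.ext hG2
    have h : A * u = u * A := by
      have e3 : hs.unit = g * A⁻¹ * g⁻¹ := by
        rw [eq_mul_inv_iff_mul_eq, eq_mul_inv_iff_mul_eq]; exact e1
      rw [e3] at e2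
      rw [hu]
      calc A * (g⁻¹ * G) = A * (g⁻¹ * (g * A⁻¹ * g⁻¹ * G * A)) := by rw [e2]
        _ = _ := by group
    exact congrArg Units.val h
  set S := Algebra.adjoin K {(u : Matrix (Fin n) (Fin n) K)}
  letI : CommRing S := { S.toRing with
    mul_comm := fun a b => Subtype.ext
      ((commute_of_mem_adjoin (commute_of_mem_adjoin (Commute.refl _) a.2).symm b.2).eq) }
  haveI : Finite S := Finite.of_injective _ Subtype.val_injective
  let tw : Matrix (Fin n) (Fin n) K → Matrix (Fin n) (Fin n) K := fun y =>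
    ((g⁻¹ : GL (Fin n) K) : Matrix (Fin n) (Fin n) K) * adj hK y * g
  have htwu : tw u = ((u⁻¹ : GL (Fin n) K) : Matrix (Fin n) (Fin n) K) := by
    show ((g⁻¹ : GL (Fin n) K) : Matrix (Fin n) (Fin n) K) * adj hK (u : Matrix (Fin n) (Fin n) K) * (g : Matrix (Fin n) (Fin n) K) = _
    have hi : adj hK ((g⁻¹ : GL (Fin n) K) : Matrix (Fin n) (Fin n) K)
        = ((G⁻¹ : GL (Fin n) K) : Matrix (Fin n) (Fin n) K) := by
      have := adj_inv_mul hK g
      rw [← hGv] at this
      calc _ = adj hK ((g⁻¹ : GL (Fin n) K) : Matrix (Fin n) (Fin n) K) * (G : Matrix (Fin n) (Fin n) K)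
            * ((G⁻¹ : GL (Fin n) K) : Matrix (Fin n) (Fin n) K) := by rw [mul_assoc, Units.mul_inv, mul_one]
        _ = _ := by rw [this, one_mul]
    rw [huv, adj_mul, adj_adj, hi, hu, _root_.mul_inv_rev, inv_inv, Units.val_mul]
    simp only [mul_assoc, Units.inv_mul_cancel_left]
  have htmul : ∀ a b, tw (a * b) = tw b * tw a := by
    intro a b
    simp only [tw, adj_mul, mul_assoc, Units.mul_inv_cancel_left]
  have htalg : ∀ r : K, tw (algebraMap K _ r) = algebraMap K _ (r ^ q) := by
    intro r
    simp only [tw, adj_algebraMap]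
    rw [← Algebra.commutes, mul_assoc, Units.inv_mul, mul_one]
  have hclosed : ∀ x ∈ S, tw x ∈ S := by
    intro x hx
    induction hx using Algebra.adjoin_induction with
    | mem y hy => rw [Set.mem_singleton_iff.mp hy, htwu]; exact inv_mem_adjoin u
    | algebraMap r => rw [htalg]; exact Subalgebra.algebraMap_mem _ _
    | add a b _ _ ha hb =>
      have : tw (a + b) = tw a + tw b := by simp only [tw, adj_add, mul_add, add_mul]
      rw [this]; exact add_mem ha hb
    | mul a b _ _ ha hb => rw [htmul]; exact mul_mem hb ha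
  let τ : S →+* S :=
    { toFun := fun a => ⟨tw a.1, hclosed _ a.2⟩
      map_one' := Subtype.ext (by show tw 1 = 1; simp only [tw, adj_one, mul_one, Units.inv_mul])
      map_mul' := fun a b => Subtype.ext (by
        show tw (a.1 * b.1) = tw a.1 * tw b.1
        rw [htmul]
        exact (commute_of_mem_adjoin (commute_of_mem_adjoin (Commute.refl _) (hclosed _ b.2)).symm
          (hclosed _ a.2)).eq)
      map_zero' := Subtype.ext (by show tw 0 = 0; simp only [tw, adj_zero, mul_zero, zero_mul])
      map_add' := fun a b => Subtype.ext (by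
        show tw (a.1 + b.1) = tw a.1 + tw b.1
        simp only [tw, adj_add, mul_add, add_mul]) }
  have htt : ∀ a, τ (τ a) = a := by
    intro a
    apply Subtype.ext
    show tw (tw a.1) = a.1
    have h1 : tw (tw a.1) = (u : Matrix (Fin n) (Fin n) K) * a.1 * ((u⁻¹ : GL (Fin n) K) : Matrix (Fin n) (Fin n) K) := by
      have hi : adj hK ((g⁻¹ : GL (Fin n) K) : Matrix (Fin n) (Fin n) K)
          = ((G⁻¹ : GL (Fin n) K) : Matrix (Fin n) (Fin n) K) := by
        have := adj_inv_mul hK g
        rw [← hGv] at this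
        calc _ = adj hK ((g⁻¹ : GL (Fin n) K) : Matrix (Fin n) (Fin n) K) * (G : Matrix (Fin n) (Fin n) K)
              * ((G⁻¹ : GL (Fin n) K) : Matrix (Fin n) (Fin n) K) := by rw [mul_assoc, Units.mul_inv, mul_one]
          _ = _ := by rw [this, one_mul]
      simp only [tw, adj_mul, adj_adj, hi]
      rw [hu, _root_.mul_inv_rev, inv_inv, Units.val_mul, Units.val_mul, ← hGv]
      simp only [mul_assoc]
    rw [h1, (commute_of_mem_adjoin (Commute.refl (u : Matrix (Fin n) (Fin n) K)) a.2).eq, mul_assoc,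
      Units.mul_inv, mul_one]
  obtain ⟨a, ha⟩ := exists_moved hK
  have hz : IsUnit (τ (algebraMap K S a) - algebraMap K S a) := by
    have he : τ (algebraMap K S a) = algebraMap K S (a ^ q) := Subtype.ext (htalg a)
    rw [he, ← map_sub]
    exact (isUnit_iff_ne_zero.mpr ha).map _
  let v : S := ⟨((u⁻¹ : GL (Fin n) K) : Matrix (Fin n) (Fin n) K), inv_mem_adjoin u⟩
  have hv : τ v * v = 1 := by
    have h1 : τ ⟨(u : Matrix (Fin n) (Fin n) K), Algebra.subset_adjoin (Set.mem_singleton _)⟩ = v :=
      Subtype.ext htwu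
    rw [← h1, htt]
    exact Subtype.ext (by show (u : Matrix (Fin n) (Fin n) K) * tw u = 1; rw [htwu, Units.mul_inv])
  obtain ⟨x, hx, hxe⟩ := InvolAlg.exists_hilbert90 τ htt _ hz v hv
  have hxc := commute_of_mem_adjoin hAu x.2
  have hxu := commute_of_mem_adjoin (Commute.refl (u : Matrix (Fin n) (Fin n) K)) x.2
  refine ⟨g * (hx.map S.val).unit, ?_, ?_⟩
  · show adj hK ((g : Matrix (Fin n) (Fin n) K) * x.1) = (g : Matrix (Fin n) (Fin n) K) * x.1
    rw [adj_mul]
    have h1 : tw x.1 = ((u⁻¹ : GL (Fin n) K) : Matrix (Fin n) (Fin n) K) * x.1 := congrArg Subtype.val hxe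
    calc adj hK x.1 * adj hK (g : Matrix (Fin n) (Fin n) K)
        = (g : Matrix (Fin n) (Fin n) K) * tw x.1 * (u : Matrix (Fin n) (Fin n) K) := by
          simp only [tw, huv, mul_assoc, Units.mul_inv_cancel_left]
      _ = _ := by rw [h1, mul_assoc, mul_assoc, ← hxu.eq, Units.inv_mul_cancel_left]
  · show adj hK (A : Matrix (Fin n) (Fin n) K) * ((g : Matrix (Fin n) (Fin n) K) * x.1) * A = (g : Matrix (Fin n) (Fin n) K) * x.1
    calc _ = adj hK (A : Matrix (Fin n) (Fin n) K) * g * (x.1 * A) := by simp only [mul_assoc]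
      _ = _ := by rw [← hxc.eq, ← mul_assoc, hg]

/-- A hermitian invertible matrix is `adj P * P`. -/
theorem exists_factor (H : GL (Fin n) K)
    (hH : adj hK (H : Matrix (Fin n) (Fin n) K) = (H : Matrix (Fin n) (Fin n) K)) :
    ∃ P : GL (Fin n) K,
      adj hK (P : Matrix (Fin n) (Fin n) K) * (P : Matrix (Fin n) (Fin n) K) = (H : Matrix (Fin n) (Fin n) K) := by
  classical
  set M := (H : Matrix (Fin n) (Fin n) K) with hM
  let h : (Fin n → K) → (Fin n → K) → K := fun u v => (Unitary.conjHom hK ∘ v) ⬝ᵥ (M *ᵥ u)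
  have hherm : Unitary.IsHerm q h := by
    refine ⟨fun x y z => ?_, fun c x z => ?_, fun x y => ?_⟩
    · simp only [h, Matrix.mulVec_add, dotProduct_add]
    · simp only [h, Matrix.mulVec_smul, dotProduct_smul, smul_eq_mul]
    · show _ = Unitary.conjHom hK (h x y)
      simp only [h]
      rw [RingHom.map_dotProduct]
      have e1 : Unitary.conjHom hK ∘ (Unitary.conjHom hK ∘ y) = y := funext fun i => conj_conj hK (y i)
      have e2 : Unitary.conjHom hK ∘ (M *ᵥ x) = M.map (Unitary.conjHom hK) *ᵥ (Unitary.conjHom hK ∘ x) :=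
        funext fun i => RingHom.map_mulVec _ M x i
      rw [e1, e2, dotProduct_comm y, Matrix.dotProduct_mulVec, ← Matrix.mulVec_transpose,
        dotProduct_comm]
      have e3 : M.transpose = M.map (Unitary.conjHom hK) := by
        have := congrArg Matrix.transpose hH
        rw [adj, Matrix.transpose_transpose] at this
        exact this.symm
      rw [← e3, dotProduct_comm]
  have hnd : Unitary.Nondeg h := by
    intro x hx
    have h0 : M *ᵥ x = 0 := by
      funext i
      have hi := hx (Pi.single i 1)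
      have hs : Unitary.conjHom hK ∘ Pi.single i (1 : K) = Pi.single i 1 := by
        funext k
        by_cases hk : k = i
        · subst hk; simp [-Unitary.conjHom_apply]
        · simp [hk, -Unitary.conjHom_apply]
      simp only [h, hs, single_dotProduct, one_mul] at hi
      exact hi
    exact Matrix.mulVec_injective_of_isUnit H.isUnit (h0.trans (Matrix.mulVec_zero _).symm)
  obtain ⟨c, hc⟩ := Unitary.exists_orthonormalBasis hK hherm hnd
  let e : Fin n ≃ Fin (Module.finrank K (Fin n → K)) := finCongr (Module.finrank_fin_fun K).symm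
  let Q : Matrix (Fin n) (Fin n) K := Matrix.of fun i j => c (e j) i
  have hQ : adj hK Q * M * Q = 1 := by
    apply Matrix.ext
    intro i j
    have hij : h (c (e j)) (c (e i)) = if e j = e i then 1 else 0 := hc.apply _ _
    have : (adj hK Q * M * Q) i j = h (c (e j)) (c (e i)) := by
      simp only [h, dotProduct, Matrix.mulVec, Matrix.mul_apply, Finset.sum_mul, Finset.mul_sum,
        adj, Matrix.transpose_apply, Matrix.map_apply, Q, Matrix.of_apply, Function.comp_apply]
      rw [Finset.sum_comm]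
      refine Finset.sum_congr rfl fun k _ => Finset.sum_congr rfl fun l _ => ?_
      ring
    rw [this, hij, Matrix.one_apply]
    simp [e.injective.eq_iff, eq_comm]
  have hQu : IsUnit Q := IsUnit.of_mul_eq_one_right (adj hK Q * M) hQ
  refine ⟨hQu.unit⁻¹, ?_⟩
  have h1 := adj_inv_mul hK hQu.unit
  have h2 := Units.mul_inv hQu.unit
  rw [IsUnit.unit_spec] at h1 h2
  calc _ = adj hK ((hQu.unit⁻¹ : GL (Fin n) K) : Matrix (Fin n) (Fin n) K) * (adj hK Q * M * Q)
        * ((hQu.unit⁻¹ : GL (Fin n) K) : Matrix (Fin n) (Fin n) K) := by rw [hQ, mul_one]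
    _ = (adj hK ((hQu.unit⁻¹ : GL (Fin n) K) : Matrix (Fin n) (Fin n) K) * adj hK Q) * M
        * (Q * ((hQu.unit⁻¹ : GL (Fin n) K) : Matrix (Fin n) (Fin n) K)) := by simp only [mul_assoc]
    _ = M := by rw [h1, h2, one_mul, mul_one]

end Cfsg.Agent.UnitaryConj
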